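import Mathlib
import Cfsg.Agent.Lib.Helper5.CS4.Defs
import Cfsg.Agent.S4127

/-!
# CS4 (S4146), package [NIL]

Two good elements and `n`, `m` prime powers give nilpotency (via S4127 and [NILASM]).
-/

set_option autoImplicit false

namespace Cfsg.Agent.Lib.Helper45.CS4

open Cfsg.Agent.Lib.Helper5.CS4

universe u

/-- In the context, every class size is `1`, `n`, `m` or `n m`. -/
theorem nil_cidx {G : Type u} [Group G] {n m : ℕ} (ctx : Ctx G n m) (y : G) :
    cidx y = 1 ∨ cidx y = n ∨ cidx y = m ∨ cidx y = n * m := by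
  have h : cidx y ∈ Set.range (fun x : G => cidx x) := ⟨y, rfl⟩
  rw [ctx.2.2.2] at h
  simpa using h

/-- A good element for `p ^ f` gives a normal `p`-complement (S4127) when the class sizes are
`1, p ^ f, q ^ e, p ^ f q ^ e`. -/
theorem nil_compl {G : Type u} [Group G] [Finite G] {p f q e : ℕ} (hp : p.Prime) (hq : q.Prime)
    (hpq : p ≠ q)
    (hcls : ∀ y : G, cidx y = 1 ∨ cidx y = p ^ f ∨ cidx y = q ^ e ∨ cidx y = p ^ f * q ^ e)
    (hgood : Good G (p ^ f)) : Cfsg.HasNormalPComplement p G := by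
  obtain ⟨a, r, j, hr, ho, hca, hrd⟩ := hgood
  have hrp : r = p := (Nat.prime_dvd_prime_iff_eq hr hp).1 (hr.dvd_of_dvd_pow hrd)
  subst hrp
  have hfact : Fact r.Prime := ⟨hp⟩
  refine Cfsg.Agent.S4127.result r f ?_ ⟨a, ⟨j, ho⟩, hca⟩
  intro y hdvd0
  have hdvd : r ^ (f + 1) ∣ cidx y := hdvd0
  have hnd : ¬ r ^ (f + 1) ∣ r ^ f := by
    intro h
    have := (Nat.pow_dvd_pow_iff_le_right hp.one_lt).1 h
    omega
  have h2 : 1 < r ^ (f + 1) := Nat.one_lt_pow (by omega) hp.one_lt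
  have hcop : Nat.Coprime (r ^ (f + 1)) (q ^ e) :=
    Nat.Coprime.pow _ _ ((Nat.coprime_primes hp hq).2 hpq)
  rcases hcls y with h | h | h | h
  · rw [h] at hdvd
    have := Nat.le_of_dvd Nat.one_pos hdvd
    omega
  · rw [h] at hdvd
    exact hnd hdvd
  · rw [h] at hdvd
    have := Nat.Coprime.eq_one_of_dvd hcop hdvd
    omega
  · rw [h] at hdvd
    exact hnd (hcop.dvd_of_dvd_mul_right hdvd)

/-- **[NIL]** (from [NILASM] and S4127) -/
theorem pkgNil (hNilAsm : PkgNilAsm.{u}) : PkgNil.{u} := by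
  intro G _ _ n m ctx hgn hgm hpn hpm
  obtain ⟨p, f, hp, hf, rfl⟩ := (isPrimePow_nat_iff n).1 hpn
  obtain ⟨q, e, hq, he, rfl⟩ := (isPrimePow_nat_iff m).1 hpm
  have hcop : (p ^ f).Coprime (q ^ e) := ctx.2.2.1
  have hpq : p ≠ q := by
    rintro rfl
    have h1 : p ∣ p ^ f := dvd_pow_self p hf.ne'
    have h2 : p ∣ p ^ e := dvd_pow_self p he.ne'
    have h3 := Nat.dvd_gcd h1 h2
    rw [hcop.gcd_eq_one] at h3
    exact hp.ne_one (Nat.dvd_one.1 h3)
  have hcls := nil_cidx ctx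
  have h1 := nil_compl hp hq hpq hcls hgn
  have hcls' : ∀ y : G, cidx y = 1 ∨ cidx y = q ^ e ∨ cidx y = p ^ f ∨
      cidx y = q ^ e * p ^ f := by
    intro y
    rcases hcls y with h | h | h | h
    · exact Or.inl h
    · exact Or.inr (Or.inr (Or.inl h))
    · exact Or.inr (Or.inl h)
    · exact Or.inr (Or.inr (Or.inr (by rw [h, mul_comm])))
  have h2 := nil_compl hq hp (Ne.symm hpq) hcls' hgm
  refine hNilAsm p q hp hq hpq h1 h2 ?_
  intro x t ht htd
  rcases hcls x with h | h | h | h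
  · rw [h] at htd
    exact absurd (Nat.dvd_one.1 htd) ht.ne_one
  · rw [h] at htd
    left
    exact (Nat.prime_dvd_prime_iff_eq ht hp).1 (ht.dvd_of_dvd_pow htd)
  · rw [h] at htd
    right
    exact (Nat.prime_dvd_prime_iff_eq ht hq).1 (ht.dvd_of_dvd_pow htd)
  · rw [h] at htd
    rcases (Nat.Prime.dvd_mul ht).1 htd with h' | h'
    · left
      exact (Nat.prime_dvd_prime_iff_eq ht hp).1 (ht.dvd_of_dvd_pow h')
    · right
      exact (Nat.prime_dvd_prime_iff_eq ht hq).1 (ht.dvd_of_dvd_pow h')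

end Cfsg.Agent.Lib.Helper45.CS4
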